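import Mathlib

/-! Row-reduced (Hermite) forms of matrices over `k[[t]]`. -/

open Matrix PowerSeries

namespace Groth.Agent.Hermite86

variable {S : Type*} [CommRing S] {r : ℕ}

/-- add a last row `(0, a)` and a last column `v` -/
def snoc (G : Matrix (Fin r) (Fin r) S) (v : Fin r → S) (a : S) :
    Matrix (Fin (r + 1)) (Fin (r + 1)) S :=
  Matrix.of fun i j => Fin.lastCases (Fin.lastCases a (fun _ => 0) j)
    (fun i' => Fin.lastCases (v i') (fun j' => G i' j') j) i

@[simp] lemma snoc_cc (G : Matrix (Fin r) (Fin r) S) (v : Fin r → S) (a : S) (i j : Fin r) :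
    snoc G v a i.castSucc j.castSucc = G i j := by simp [snoc]

@[simp] lemma snoc_cl (G : Matrix (Fin r) (Fin r) S) (v : Fin r → S) (a : S) (i : Fin r) :
    snoc G v a i.castSucc (Fin.last r) = v i := by simp [snoc]

@[simp] lemma snoc_lc (G : Matrix (Fin r) (Fin r) S) (v : Fin r → S) (a : S) (j : Fin r) :
    snoc G v a (Fin.last r) j.castSucc = 0 := by simp [snoc]

@[simp] lemma snoc_ll (G : Matrix (Fin r) (Fin r) S) (v : Fin r → S) (a : S) :
    snoc G v a (Fin.last r) (Fin.last r) = a := by simp [snoc]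

lemma snoc_mul (G G' : Matrix (Fin r) (Fin r) S) (v v' : Fin r → S) (a a' : S) :
    snoc G v a * snoc G' v' a' = snoc (G * G') (G *ᵥ v' + a' • v) (a * a') := by
  refine Matrix.ext fun i j => ?_
  refine Fin.lastCases ?_ (fun i' => ?_) i <;> refine Fin.lastCases ?_ (fun j' => ?_) j <;>
    simp [Matrix.mul_apply, Fin.sum_univ_castSucc, mulVec, dotProduct, mul_comm]

lemma snoc_one : snoc (1 : Matrix (Fin r) (Fin r) S) 0 1 = 1 := by
  refine Matrix.ext fun i j => ?_
  refine Fin.lastCases ?_ (fun i' => ?_) i <;> refine Fin.lastCases ?_ (fun j' => ?_) j <;>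
    simp [Matrix.one_apply, Fin.castSucc_ne_last, (Fin.castSucc_ne_last _).symm]

lemma isUnit_snoc {G : Matrix (Fin r) (Fin r) S} (hG : IsUnit G) (v : Fin r → S) {a : S}
    (ha : IsUnit a) : IsUnit (snoc G v a) := by
  obtain ⟨U, rfl⟩ := hG
  obtain ⟨b, rfl⟩ := ha
  refine IsUnit.of_mul_eq_one
    (snoc (↑U⁻¹ : Matrix (Fin r) (Fin r) S) (-((↑b⁻¹ : S) • ((↑U⁻¹ : Matrix (Fin r) (Fin r) S) *ᵥ v)))
      (↑b⁻¹ : S)) ?_
  rw [snoc_mul, Units.mul_inv, Units.mul_inv, ← snoc_one]
  congr 1
  rw [mulVec_neg, mulVec_smul, mulVec_mulVec, Units.mul_inv, one_mulVec, neg_add_cancel]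

lemma eq_snoc (T : Matrix (Fin (r + 1)) (Fin (r + 1)) S) (hT : ∀ i j, j < i → T i j = 0) :
    T = snoc (Matrix.of fun i j : Fin r => T i.castSucc j.castSucc)
      (fun i => T i.castSucc (Fin.last r)) (T (Fin.last r) (Fin.last r)) := by
  refine Matrix.ext fun i j => ?_
  refine Fin.lastCases ?_ (fun i' => ?_) i <;> refine Fin.lastCases ?_ (fun j' => ?_) j <;>
    simp [hT _ _ (Fin.castSucc_lt_last _)]

variable {k : Type*} [Field k]

/-- upper triangular with monomial diagonal -/
def Tri {r : ℕ} (T : Matrix (Fin r) (Fin r) (PowerSeries k)) (e : Fin r → ℕ) : Prop :=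
  (∀ i, T i i = X ^ e i) ∧ ∀ i j, j < i → T i j = 0

lemma exists_trunc (w : PowerSeries k) (e : ℕ) :
    ∃ c : PowerSeries k, (∀ n, e ≤ n → coeff n (w - c * X ^ e) = 0) ∧
      ∀ n, n < e → coeff n (w - c * X ^ e) = coeff n w := by
  refine ⟨PowerSeries.mk fun n => coeff (n + e) w, fun n hn => ?_, fun n hn => ?_⟩
  · rw [map_sub, coeff_mul_X_pow', if_pos hn, coeff_mk, Nat.sub_add_cancel hn, sub_self]
  · rw [map_sub, coeff_mul_X_pow', if_neg (by omega), sub_zero]

/-- clearing the congruent terms by a vector over `k[[t^p]]` -/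
lemma exists_q (p : ℕ) : ∀ (r : ℕ) (G : Matrix (Fin r) (Fin r) (PowerSeries k)) (e : Fin r → ℕ),
    Tri G e → ∀ w : Fin r → PowerSeries k, ∃ q : Fin r → PowerSeries k,
      (∀ i n, ¬ p ∣ n → coeff n (q i) = 0) ∧
      ∀ i n, e i ≤ n → n % p = e i % p → coeff n ((w + G *ᵥ q) i) = 0
  | 0, _, _, _, _ => ⟨0, fun i => i.elim0, fun i => i.elim0⟩
  | r + 1, G, e, hG, w => by
    set d := e (Fin.last r) with hd
    let ql : PowerSeries k :=
      PowerSeries.mk fun m => if p ∣ m then -coeff (m + d) (w (Fin.last r)) else 0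
    set G' := Matrix.of fun i j : Fin r => G i.castSucc j.castSucc with hG'
    obtain ⟨q', hq1, hq2⟩ := exists_q p r G' (fun i => e i.castSucc)
      ⟨fun i => hG.1 _, fun i j hij => hG.2 _ _ (Fin.castSucc_lt_castSucc_iff.2 hij)⟩
      (fun i => w i.castSucc + G i.castSucc (Fin.last r) * ql)
    refine ⟨Fin.lastCases ql q', fun i n hn => ?_, fun i n hn hmod => ?_⟩
    · refine Fin.lastCases ?_ (fun i' => ?_) i
      · simp [ql, hn]
      · simpa using hq1 i' n hn
    · have hsum : ∀ i, (G *ᵥ (Fin.lastCases ql q' : Fin (r + 1) → PowerSeries k)) i =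
          ∑ j : Fin r, G i j.castSucc * q' j + G i (Fin.last r) * ql := fun i => by
        simp [mulVec, dotProduct, Fin.sum_univ_castSucc]
      induction i using Fin.lastCases with
      | last =>
        rw [Pi.add_apply, hsum, Finset.sum_eq_zero (fun j _ => by
          rw [hG.2 _ _ (Fin.castSucc_lt_last j), zero_mul]), zero_add, hG.1, map_add,
          coeff_X_pow_mul', if_pos hn, coeff_mk,
          if_pos ((Nat.modEq_iff_dvd' hn).1 hmod.symm), Nat.sub_add_cancel hn, add_neg_cancel]
      | cast i' =>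
        rw [Pi.add_apply, hsum, add_comm (∑ j : Fin r, _) _, ← add_assoc]
        exact hq2 i' n hn hmod

/-- the conditions on a reduced form, parametrised by an extra congruence condition -/
def Red {r : ℕ} (R : ℕ → ℕ → Prop) (T : Matrix (Fin r) (Fin r) (PowerSeries k)) (e : Fin r → ℕ) :
    Prop :=
  Tri T e ∧ ∀ i j, i < j → ∀ n, (e j ≤ n ∨ R (e i) n) → coeff n (T i j) = 0

lemma tri_snoc {G : Matrix (Fin r) (Fin r) (PowerSeries k)} {e : Fin r → ℕ} (hG : Tri G e)
    (v : Fin r → PowerSeries k) (d : ℕ) :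
    Tri (snoc G v (X ^ d)) (Fin.lastCases d e) := by
  constructor
  · intro i
    refine Fin.lastCases ?_ (fun i' => ?_) i
    · simp
    · simpa using hG.1 i'
  · intro i j
    refine Fin.lastCases ?_ (fun i' => ?_) i <;> refine Fin.lastCases ?_ (fun j' => ?_) j <;> intro h
    · exact absurd h (lt_irrefl _)
    · simp
    · exact absurd h (not_lt.2 (Fin.le_last _))
    · simpa using hG.2 i' j' (Fin.castSucc_lt_castSucc_iff.1 h)

/-- reduction of a triangular matrix -/
lemma exists_red (R : ℕ → ℕ → Prop) (Q : PowerSeries k → Prop) (triv : Prop) (hQ0 : Q 0) (hQ1 : Q 1)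
    (hQadd : ∀ x y, Q x → Q y → Q (x + y)) (hQmul : ∀ x y, Q x → Q y → Q (x * y))
    (hclear : ∀ (r : ℕ) (G : Matrix (Fin r) (Fin r) (PowerSeries k)) (e : Fin r → ℕ),
      Tri G e → ∀ w : Fin r → PowerSeries k, ∃ q : Fin r → PowerSeries k,
        (∀ i, Q (q i)) ∧ (triv → q = 0) ∧ ∀ i n, R (e i) n → coeff n ((w + G *ᵥ q) i) = 0) :
    ∀ (r : ℕ) (T : Matrix (Fin r) (Fin r) (PowerSeries k)) (e : Fin r → ℕ), Tri T e →
      ∃ (N P : Matrix (Fin r) (Fin r) (PowerSeries k)) (f : Fin r → ℕ),
        IsUnit N ∧ IsUnit P ∧ (∀ i j, Q (P i j)) ∧ (triv → P = 1) ∧ Red R (N * T * P) f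
  | 0, _, e, _ =>
    ⟨1, 1, e, isUnit_one, isUnit_one, fun i => i.elim0, fun _ => rfl,
      ⟨fun i => i.elim0, fun i => i.elim0⟩, fun i => i.elim0⟩
  | r + 1, T, e, hT => by
    have hQsum : ∀ {ι : Type} (s : Finset ι) (g : ι → PowerSeries k),
        (∀ i ∈ s, Q (g i)) → Q (∑ i ∈ s, g i) := fun s g hg =>
      Finset.sum_induction g Q hQadd hQ0 hg
    set d := e (Fin.last r) with hd
    set T' := Matrix.of fun i j : Fin r => T i.castSucc j.castSucc with hT'
    obtain ⟨N, P, f, hN, hP, hPQ, hP1, hRed⟩ := exists_red R Q triv hQ0 hQ1 hQadd hQmul hclear r T'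
      (fun i => e i.castSucc)
      ⟨fun i => hT.1 _, fun i j hij => hT.2 _ _ (Fin.castSucc_lt_castSucc_iff.2 hij)⟩
    set v := fun i : Fin r => T i.castSucc (Fin.last r) with hv
    obtain ⟨q, hqQ, hq0, hq⟩ := hclear r (N * T' * P) f hRed.1 (N *ᵥ v)
    set w := N *ᵥ v + (N * T' * P) *ᵥ q with hw
    choose c hc hc' using fun i => exists_trunc (w i) d
    refine ⟨snoc N (-c) 1, snoc P (P *ᵥ q) 1, Fin.lastCases d f, isUnit_snoc hN _ isUnit_one,
      isUnit_snoc hP _ isUnit_one, fun i j => ?_,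
      fun ht => by rw [hP1 ht, hq0 ht, mulVec_zero, snoc_one], ?_⟩
    · refine Fin.lastCases ?_ (fun i' => ?_) i <;> refine Fin.lastCases ?_ (fun j' => ?_) j
      · simpa using hQ1
      · simpa using hQ0
      · simp only [snoc_cl, mulVec, dotProduct]
        exact hQsum _ _ fun l _ => hQmul _ _ (hPQ _ _) (hqQ l)
      · simpa using hPQ i' j'
    · have e1 : snoc N (-c) 1 * T * snoc P (P *ᵥ q) 1 =
          snoc (N * T' * P) (fun i => w i - c i * X ^ d) (X ^ d) := by
        conv_lhs => rw [eq_snoc T hT.2, hT.1]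
        rw [snoc_mul, snoc_mul, one_mul, mul_one, one_smul, mulVec_mulVec]
        congr 1
        funext i
        simp only [hw, hT', hv, hd, Pi.add_apply, Pi.smul_apply, Pi.neg_apply, smul_eq_mul]
        ring
      rw [e1]
      refine ⟨tri_snoc hRed.1 _ d, fun i j => ?_⟩
      refine Fin.lastCases ?_ (fun i' => ?_) i <;> refine Fin.lastCases ?_ (fun j' => ?_) j <;>
        intro hij n hn
      · exact absurd hij (lt_irrefl _)
      · exact absurd hij (not_lt.2 (Fin.le_last _))
      · simp only [Fin.lastCases_last, Fin.lastCases_castSucc] at hn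
        rw [snoc_cl]
        by_cases hdn : d ≤ n
        · exact hc i' n hdn
        · rw [hc' i' n (by omega)]
          exact hq i' n (hn.resolve_left hdn)
      · simp only [Fin.lastCases_castSucc] at hn
        rw [snoc_cc]
        exact hRed.2 i' j' (Fin.castSucc_lt_castSucc_iff.1 hij) n hn

lemma exists_min (v : Fin r → PowerSeries k) (hv : ∃ i, v i ≠ 0) :
    ∃ (i : Fin r) (e : ℕ) (u : PowerSeries k), IsUnit u ∧ v i = X ^ e * u ∧ ∀ l, X ^ e ∣ v l := by
  classical
  have hex : ∃ n, ∃ i, coeff n (v i) ≠ 0 := by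
    obtain ⟨i, hi⟩ := hv
    by_contra hc
    push_neg at hc
    exact hi (PowerSeries.ext fun n => by simpa using hc n i)
  set e := Nat.find hex with he
  obtain ⟨i, hi⟩ := Nat.find_spec hex
  have hdvd : ∀ l, X ^ e ∣ v l := fun l => PowerSeries.X_pow_dvd_iff.2 fun m hm => by
    have := Nat.find_min hex hm
    push_neg at this
    exact this l
  obtain ⟨u, hu⟩ := hdvd i
  refine ⟨i, e, u, ?_, hu, hdvd⟩
  rw [PowerSeries.isUnit_iff_constantCoeff, isUnit_iff_ne_zero]
  intro h0
  apply hi
  rw [hu, coeff_X_pow_mul', if_pos (le_refl _), Nat.sub_self, coeff_zero_eq_constantCoeff]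
  exact h0

/-- triangularisation -/
lemma exists_tri : ∀ (r : ℕ) (M : Matrix (Fin r) (Fin r) (PowerSeries k)), M.det ≠ 0 →
    ∃ (N : Matrix (Fin r) (Fin r) (PowerSeries k)) (e : Fin r → ℕ), IsUnit N ∧ Tri (N * M) e
  | 0, _, _ => ⟨1, Fin.elim0, isUnit_one, fun i => i.elim0, fun i => i.elim0⟩
  | r + 1, M, hM => by
    classical
    have hv : ∃ i, M i 0 ≠ 0 := by
      by_contra hc
      push_neg at hc
      exact hM (det_eq_zero_of_column_eq_zero 0 hc)
    obtain ⟨i, e, u, hu, hiu, hdvd⟩ := exists_min (fun i => M i 0) hv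
    obtain ⟨uu, rfl⟩ := hu
    set σ : Equiv.Perm (Fin (r + 1)) := Equiv.swap 0 i with hσ
    let Pm : Matrix (Fin (r + 1)) (Fin (r + 1)) (PowerSeries k) := σ.permMatrix (PowerSeries k)
    set M1 := Pm * M with hM1
    have hM1e : ∀ a b, M1 a b = M (σ a) b := fun a b => by
      simp [hM1, Pm, Matrix.mul_apply, Equiv.Perm.permMatrix, PEquiv.toMatrix_apply]
    have hPm : IsUnit Pm := by
      rw [Matrix.isUnit_iff_isUnit_det, Matrix.det_permutation]
      exact (Equiv.Perm.sign σ).isUnit.map (Int.castRingHom (PowerSeries k))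
    choose g hg using fun l => hdvd (σ l)
    let L : Matrix (Fin (r + 1)) (Fin (r + 1)) (PowerSeries k) := Matrix.of fun a b =>
      Fin.cases (if b = 0 then (↑uu⁻¹ : PowerSeries k) else 0)
        (fun a' => Fin.cases (-(g a'.succ * (↑uu⁻¹ : PowerSeries k)))
          (fun b' => if a' = b' then 1 else 0) b) a
    have hL : IsUnit L := by
      rw [Matrix.isUnit_iff_isUnit_det, Matrix.det_of_isLowerTriangular L ?_]
      · refine IsUnit.prod_iff.2 fun a _ => ?_
        refine Fin.cases ?_ (fun a' => ?_) a <;> simp [L]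
      · intro a b hab
        simp only [OrderDual.toDual_lt_toDual] at hab
        revert hab
        refine Fin.cases ?_ (fun a' => ?_) a <;> refine Fin.cases ?_ (fun b' => ?_) b <;> intro hab
        · exact absurd hab (lt_irrefl _)
        · simp [L]
        · exact absurd hab (not_lt.2 (Fin.zero_le _))
        · simp [L, (Fin.succ_lt_succ_iff.1 hab).ne]
    set M2 := L * M1 with hM2
    have hσ0 : σ 0 = i := Equiv.swap_apply_left 0 i
    have h00 : M2 0 0 = X ^ e := by
      simp [hM2, Matrix.mul_apply, Fin.sum_univ_succ, L, hM1e, hσ0, hiu]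
      rw [mul_left_comm, Units.inv_mul, mul_one]
    have hs0 : ∀ a : Fin r, M2 a.succ 0 = 0 := fun a => by
      simp [hM2, Matrix.mul_apply, Fin.sum_univ_succ, L, hM1e, hσ0, hiu]
      linear_combination hg a.succ - (g a.succ * X ^ e) * uu.inv_mul
    let M' : Matrix (Fin r) (Fin r) (PowerSeries k) := Matrix.of fun a b => M2 a.succ b.succ
    have hdet : M2.det = X ^ e * M'.det := by
      rw [Matrix.det_succ_column_zero, Fin.sum_univ_succ, h00,
        Finset.sum_eq_zero (fun a _ => by rw [hs0]; simp), add_zero]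
      simp [M', Matrix.submatrix]
    have hM' : M'.det ≠ 0 := by
      intro h0
      rw [h0, mul_zero, hM2, hM1, det_mul, det_mul] at hdet
      rcases mul_eq_zero.1 hdet with h | h
      · exact ((Matrix.isUnit_iff_isUnit_det _).1 hL).ne_zero h
      · rcases mul_eq_zero.1 h with h | h
        · exact ((Matrix.isUnit_iff_isUnit_det _).1 hPm).ne_zero h
        · exact hM h
    obtain ⟨N', e', hN', hT⟩ := exists_tri r M' hM'
    let B : Matrix (Fin (r + 1)) (Fin (r + 1)) (PowerSeries k) := Matrix.of fun a b =>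
      Fin.cases (Fin.cases 1 (fun _ => 0) b) (fun a' => Fin.cases 0 (fun b' => N' a' b') b) a
    have hB : IsUnit B := by
      have hBd : B.det = N'.det := by
        rw [Matrix.det_succ_row_zero, Fin.sum_univ_succ,
          Finset.sum_eq_zero (fun a _ => by simp [B]), add_zero]
        simp [B, Matrix.submatrix]
        rfl
      rw [Matrix.isUnit_iff_isUnit_det, hBd, ← Matrix.isUnit_iff_isUnit_det]
      exact hN'
    have hB0 : ∀ b, (B * M2) 0 b = M2 0 b := fun b => by
      simp [Matrix.mul_apply, Fin.sum_univ_succ, B]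
    have hBs : ∀ a b, (B * M2) (Fin.succ a) b = ∑ l : Fin r, N' a l * M2 l.succ b := fun a b => by
      simp [Matrix.mul_apply, Fin.sum_univ_succ, B]
    refine ⟨B * L * Pm, Fin.cases e e', (hB.mul hL).mul hPm, ?_⟩
    rw [Matrix.mul_assoc, Matrix.mul_assoc, ← hM1, ← hM2]
    refine ⟨fun a => ?_, fun a b => ?_⟩
    · refine Fin.cases ?_ (fun a' => ?_) a
      · simp [hB0, h00]
      · show _ = X ^ e' a'
        rw [hBs, ← hT.1 a', Matrix.mul_apply]
        rfl
    · refine Fin.cases ?_ (fun a' => ?_) a <;> refine Fin.cases ?_ (fun b' => ?_) b <;> intro hab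
      · exact absurd hab (lt_irrefl _)
      · exact absurd hab (not_lt.2 (Fin.zero_le _))
      · rw [hBs]
        exact Finset.sum_eq_zero fun l _ => by rw [hs0, mul_zero]
      · rw [hBs, ← hT.2 a' b' (Fin.succ_lt_succ_iff.1 hab), Matrix.mul_apply]
        rfl

/-- uniqueness -/
lemma unique_red (H H' U : Matrix (Fin r) (Fin r) (PowerSeries k)) (e e' : Fin r → ℕ)
    (hU : IsUnit U) (hH : Red (fun _ _ => False) H e) (hH' : Red (fun _ _ => False) H' e')
    (h : U * H = H') : H' = H := by
  classical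
  obtain ⟨⟨hd, hl⟩, hr⟩ := hH
  obtain ⟨⟨hd', hl'⟩, hr'⟩ := hH'
  have hX : ∀ n, (X : PowerSeries k) ^ n ≠ 0 := fun n => pow_ne_zero n PowerSeries.X_ne_zero
  have hlow : ∀ (m : ℕ) (j : Fin r), (j : ℕ) = m → ∀ i, j < i → U i j = 0 := by
    intro m
    induction m using Nat.strong_induction_on with
    | _ m ih =>
      intro j hj i hij
      have h1 := congrArg (fun A => A i j) h
      simp only [Matrix.mul_apply, hl' i j hij] at h1
      rw [Finset.sum_eq_single j (fun l _ hlj => by
        rcases lt_or_gt_of_ne hlj with hlt | hgt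
        · rw [ih l (by rw [← hj]; exact hlt) l rfl i (lt_trans hlt hij), zero_mul]
        · rw [hl l j hgt, mul_zero]) (by simp), hd j] at h1
      exact (mul_eq_zero.1 h1).resolve_right (hX _)
  have hlow' : ∀ i j, j < i → U i j = 0 := fun i j hij => hlow _ j rfl i hij
  have hdiagU : ∀ i, IsUnit (U i i) := by
    have := (Matrix.isUnit_iff_isUnit_det U).1 hU
    rw [Matrix.det_of_isUpperTriangular (fun i j hij => hlow' i j hij)] at this
    exact fun i => IsUnit.prod_iff.1 this i (Finset.mem_univ i)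
  have hdiag : ∀ i, U i i = 1 ∧ e' i = e i := by
    intro i
    have h1 := congrArg (fun A => A i i) h
    simp only [Matrix.mul_apply, hd' i] at h1
    rw [Finset.sum_eq_single i (fun l _ hlj => by
      rcases lt_or_gt_of_ne hlj with hlt | hgt
      · rw [hlow' i l hlt, zero_mul]
      · rw [hl l i hgt, mul_zero]) (by simp), hd i] at h1
    have he : e' i = e i := by
      have := congrArg PowerSeries.order h1
      obtain ⟨u, hu⟩ := hdiagU i
      rw [PowerSeries.order_mul, ← hu, PowerSeries.order_X_pow, PowerSeries.order_X_pow,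
        PowerSeries.order_zero_of_unit u.isUnit] at this
      simpa using this.symm
    rw [he] at h1
    exact ⟨mul_right_cancel₀ (hX _) (h1.trans (one_mul _).symm), he⟩
  have hup : ∀ (m : ℕ) (j : Fin r), (j : ℕ) = m → ∀ i, i < j → U i j = 0 := by
    intro m
    induction m using Nat.strong_induction_on with
    | _ m ih =>
      intro j hj i hij
      have h1 := congrArg (fun A => A i j) h
      simp only [Matrix.mul_apply] at h1
      have hsum : ∑ l, U i l * H l j = H i j + U i j * X ^ e j := by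
        rw [Fintype.sum_eq_add i j hij.ne (fun l hl2 => ?_), (hdiag i).1, one_mul, hd j]
        rcases lt_or_gt_of_ne hl2.1 with hlt | hgt
        · rw [hlow' i l hlt, zero_mul]
        · rcases lt_or_gt_of_ne hl2.2 with hlt' | hgt'
          · rw [ih l (by rw [← hj]; exact hlt') l rfl i hgt, zero_mul]
          · rw [hl l j hgt', mul_zero]
      rw [hsum] at h1
      ext n
      have := congrArg (coeff (n + e j)) h1
      rw [map_add, hr i j hij _ (Or.inl (by omega)),
        hr' i j hij _ (Or.inl (by rw [(hdiag j).2]; omega)), coeff_mul_X_pow, zero_add] at this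
      simpa using this
  have hU1 : U = 1 := by
    refine Matrix.ext fun i j => ?_
    rcases lt_trichotomy i j with hij | rfl | hij
    · rw [hup _ j rfl i hij, Matrix.one_apply_ne hij.ne]
    · rw [(hdiag i).1, Matrix.one_apply_eq]
    · rw [hlow' i j hij, Matrix.one_apply_ne hij.ne']
  rw [← h, hU1, Matrix.one_mul]

end Groth.Agent.Hermite86
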